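import Cfsg.Agent.Omega.OM.SWT.CaseLS
import Cfsg.Agent.Omega.OM.Lev.Low.LowMain

/-!
# (LL), `q > 2`, over a general top level `K₀`: the minimal parabolics which have a stage among the `lev S j ≤ K₀`

`low_lev` : if `Y` moves `Ω₁Z(T)`, `T ≥ B`, then `lev S j ≤ O₂(Y)` for all `j` with `lev S j ≤ K₀`;
`low_lim` : in the case (L) `lim S ≤ O₂(Y)`; `LowW`, `lowC_of` : `LowC` from LL for the `Y` with `lim S ≤ O₂(Y)`,
`O₂(P) ≰ O₂(Y)`.
-/

set_option autoImplicit false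
set_option linter.unusedSectionVars false

namespace Cfsg.Agent.Omega.OM.SWT

open Subgroup Cfsg Cfsg.Agent.ZN.ChoiceBase Cfsg.Agent.ZN.ChoiceSit
open Cfsg.Agent.ZN (jj zj bau zc zl o2)
open Cfsg.Agent.MinSimple.MinParabolic (IsMinPar)
open Cfsg.Agent.Omega.NO3S.Level (Lev nxt lim lev_isLev lev_le_lim CaseL lev_mono lev_le)
open Cfsg.Agent.Omega.OM.Lev.Low (exists_ybj exists_stg no_low)

universe u

variable {G : Type u} [Group G] [Finite G] {S : Sylow 2 G} {P : Subgroup G}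

section line

variable {ι : Type} [Finite ι] {n : LV S} {L W Z C A : ι → Subgroup G} {q : ℕ}

/-- **`QV`** -/
theorem qv (h : Ln P n L W Z C A q) {T : Subgroup G} (hT : IsPGroup 2 T) (hB : BT n ≤ T) {D : LV S}
    (hD : D.K ≤ n.K) : Lev.Low.YB.QV T (zc D.K) (o2 P) (zl (S : Subgroup G) P) where
  QT := h.fr.QB.trans hB
  TQ := by
    intro t ht
    have h1 := (lb n).two_le hT hB ht
    have h2 := two_norm h hT hB ht
    have e : o2 P = BT n ⊓ centralizer (zl (S : Subgroup G) P : Set G) := by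
      ext x
      rw [mem_inf, mem_centralizer_iff]
      constructor
      · intro hx
        exact ⟨h.fr.QB hx, fun v hv => ((h.fr.mem_Q x (h.fr.QB hx)).1 hx v hv).symm⟩
      · rintro ⟨hx, hx'⟩
        exact (h.fr.mem_Q x hx).2 fun v hv => (hx' v hv).symm
    rw [mem_normalizer_iff_cj, e, cj_inf, cj_centralizer, cj_eq_of_mem_normalizer h1, cj_eq_of_mem_normalizer h2]
  mem := by
    intro x
    have hVX : zl (S : Subgroup G) P ≤ zc D.K := V_le_X h hD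
    constructor
    · exact fun hx => ⟨hVX hx, fun q hq => (h.fr.mem_Q q (h.fr.QB hq)).1 hq x hx⟩
    · rintro ⟨hx, hxQ⟩
      have h1 : x ∈ (S : Subgroup G) := D.lev.le (mem_zc.1 hx).1
      have h2 : x ∈ P := h.hyp.syl.1 h1
      have h3 : x ∈ o2 P := h.hyp.star.isLoc.char2 S h.hyp.ctx.char2 ⟨h2, mem_centralizer_iff.2 hxQ⟩
      exact h.fr.zcQ x h3 (mem_zc.1 hx).2.1 fun y hy => (hxQ y hy).symm
  two := hT

/-- `Ω₁Z(T) ≤ Z_J` -/
theorem zc_T_le (n : LV S) {T : Subgroup G} (hT : IsPGroup 2 T) (hB : BT n ≤ T) : zc T ≤ ZT n :=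
  (LV.levT (⟨n.nx, n.lev.next⟩ : LV S) hT ((lb n).KB.trans hB)).zc_le

/-- **(LL), `q > 2`.** -/
theorem low_lev (h : Ln P n L W Z C A q) (hq : 2 < q) {T Y : Subgroup G} (hT : Syl T Y)
    (hB : BT n ≤ T) (hP : IsMinPar T Y) (hc : Y ⊓ centralizer (o2 Y : Set G) ≤ o2 Y)
    (hZ : ¬ Y ≤ centralizer (zc T : Set G)) {j : ℕ} (hj : NO3S.Level.lev (S : Subgroup G) j ≤ n.K) :
    NO3S.Level.lev (S : Subgroup G) j ≤ o2 Y := by
  by_contra hn
  obtain ⟨i, hi, hlow, hni⟩ := exists_stg (S : Subgroup G) hn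
  have hin : NO3S.Level.lev (S : Subgroup G) i ≤ n.K := (lev_mono _ hi).trans hj
  have hBi : LevB.BL (S : Subgroup G) i ≤ T := by
    refine le_trans (inf_le_inf_left _ (centralizer_le ?_)) hB
    exact_mod_cast (lev_isLev (S : Subgroup G) i).zc_le_zc (hin.trans n.K_le_nx) (NO3S.Level.nxt_le _ _)
  obtain ⟨Λ, _, N, c, hy, l, hl⟩ := exists_ybj S hT hBi hP hc hlow hni hZ
  have h1 := no_low h.fr hq hy (qv h hT.2.1 hB (D := ⟨_, lev_isLev (S : Subgroup G) i⟩) hin) hB l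
  exact hl ((zc_T_le n hT.2.1 hB).trans h1)

end line

/-- **LL** for the `Y` with `lim S ≤ O₂(Y)`, `O₂(P) ≰ O₂(Y)`. -/
def LowW (h : CaseL S P) (H : Subgroup G) : Prop :=
  ∀ T Y : Subgroup G, Syl T Y → BT (nL h) ≤ T → IsMinPar T Y → Y ⊓ centralizer (o2 Y : Set G) ≤ o2 Y → Y ≤ H →
    lim (S : Subgroup G) ≤ o2 Y → ¬ o2 P ≤ o2 Y → Y ≤ centralizer (zc T : Set G)

/-- in the case (L) -/
theorem low_lim (h : CaseL S P) {ι : Type} [Finite ι] {L W Z C A : ι → Subgroup G} {q : ℕ}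
    (hl : Ln P (nL h) L W Z C A q) (hq : 2 < q) {T Y : Subgroup G} (hT : Syl T Y)
    (hB : BT (nL h) ≤ T) (hP : IsMinPar T Y) (hc : Y ⊓ centralizer (o2 Y : Set G) ≤ o2 Y)
    (hZ : ¬ Y ≤ centralizer (zc T : Set G)) : lim (S : Subgroup G) ≤ o2 Y :=
  low_lev hl hq hT hB hP hc hZ (h.lim_le : NO3S.Level.lev (S : Subgroup G) (Nat.card G) ≤ o2 P)

theorem lowC_of (h : CaseL S P) {ι : Type} [Finite ι] {L W Z C A : ι → Subgroup G} {q : ℕ}
    (hl : Ln P (nL h) L W Z C A q) (hq : 2 < q) {H : Subgroup G} (hw : LowW h H) : LowC h H := by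
  intro T Y hT hB hP hc hH hK
  by_contra hZ
  exact hZ (hw T Y hT hB hP hc hH (low_lim h hl hq hT hB hP hc hZ) hK)

end Cfsg.Agent.Omega.OM.SWT
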