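import Cfsg.Agent.Omega.OM.SWT.Dt
import Cfsg.Agent.Omega.OM.SWT.OneA

/-!
# THEOREM SWQ over a general top level: the choice of the pair, and CASE I

`H = C_G(Z₁)`, `1 ≠ Z₁ ≤ Ω₁Z(S)`. The pair `(T, F)` is chosen inside `C_G(C₀)`, `Z₁ ≤ C₀ ≤ Z_J` maximal with
`C_G(C₀) ≰ X` (helper334 #23847 (0)): `C_{Z_J}(T) = C₀`, `C_G(Y) ≤ X` for `C₀ < Y ≤ Z_J`. So all groups in play lie in `H`.

* `BM.mono`, `QFix.mono`, `Pair.mono`, `pair_cj`, `comm_of_pair`, `lam`;
* `Sel D X H T F`; `exists_sel`; `Sel.pra`;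
* `phi_univ` : CASE I: `T` normalises all `Z i` (`q ≥ 4`).
-/

set_option autoImplicit false
set_option linter.unusedSectionVars false

namespace Cfsg.Agent.Omega.OM.SWT

open Subgroup Cfsg Cfsg.Agent.ZN.ChoiceBase Cfsg.Agent.ZN.ChoiceSit
open Cfsg.Agent.ZN (jj zj bau zc zl o2)
open Cfsg.Agent.MinSimple.MinParabolic (IsMinPar)
open Cfsg.Agent.Omega.FrameFF (cv)
open Cfsg.Agent.Omega.NO3S.OneLine (NatC)
open Cfsg.Agent.Omega.OM.Lev.Nat

universe u

variable {G : Type u} [Group G] [Finite G] {S : Sylow 2 G} {P : Subgroup G} {n : LV S}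

theorem Quiet.mono {X H H' T Y : Subgroup G} (h : Quiet n X H T Y) (hle : H ≤ H') : Quiet n X H' T Y :=
  ⟨h.syl, h.BT, h.min, h.char2, h.le.trans hle, h.nM, h.nx, h.quiet⟩

theorem BM.mono {X H H' : Subgroup G} (h : BM n X H') (hle : H ≤ H') : BM n X H :=
  fun T Y h1 h2 h3 h4 h5 => h T Y h1 h2 h3 h4 (h5.trans hle)

theorem QFix.mono {X H H' : Subgroup G} (h : QFix n X H') (hle : H ≤ H') : QFix n X H :=
  fun T Y h1 h2 => h T Y (h1.mono hle) h2

theorem Pair.mono {X H H' T F : Subgroup G} (h : Pair P n X H T F) (hle : H ≤ H') : Pair P n X H' T F := by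
  obtain ⟨T₀, Y, h1, h2, h3⟩ := h.inQ
  exact ⟨h.syl, h.BT, h.nM, h.min, h.VO, h.fix, T₀, Y, h1.mono hle, h2, h3⟩

theorem ZT_two (n : LV S) : IsPGroup 2 (ZT n) := (lb n).Bp.to_le (lb n).ZB

theorem zc_S_le (n : LV S) : zc (S : Subgroup G) ≤ ZT n := n.lev.next.zc_le

theorem nx_cj (n : LV S) {m : G} (hm : m ∈ normalizer (BT n : Set G)) : cj m n.nx = n.nx :=
  cj_eq_of_mem_normalizer (n.lev.next.norm (BT n) (lb n).KB (lb n).BS hm)

theorem isMinPar_cj' {T Y : Subgroup G} (h : IsMinPar T Y) (m : G) : IsMinPar (cj m T) (cj m Y) := by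
  obtain ⟨h1, h2, M, h3, h4⟩ := h
  have key : ∀ K, cj m⁻¹ (cj m K) = K := fun K => cj_inv_cj m K
  refine ⟨cj_mono m h1, fun hle => h2 ?_, cj m M, lt_of_le_of_ne (cj_mono m h3.le) fun e => h3.ne ?_,
    fun K h5 h6 => ?_⟩
  · have h5 := cj_mono m⁻¹ hle
    rwa [cj_inv_cj, cj_normalizer, cj_inv_cj] at h5
  · rw [← key M, e, key]
  · have h7 := h4 (cj m⁻¹ K) (by
      have := cj_mono m⁻¹ h5
      rwa [cj_inv_cj] at this) (lt_of_le_of_ne (by
        have := cj_mono m⁻¹ h6.le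
        rwa [cj_inv_cj] at this) fun e => h6.ne (by rw [← e, cj_cj_inv]))
    have h8 := cj_mono m h7
    rwa [cj_cj_inv] at h8

/-- Conjugation by `m ∈ N_G(B) ≤ X`. -/
theorem quiet_conjN {X H T Y : Subgroup G} (h : Quiet n X H T Y) (hN : normalizer (BT n : Set G) ≤ X) {m : G}
    (hm : m ∈ normalizer (BT n : Set G)) : Quiet n X (cj m H) (cj m T) (cj m Y) := by
  have hX' : cj m⁻¹ X = X := cj_eq_of_mem_normalizer (le_normalizer (inv_mem (hN hm)))
  refine ⟨ZN.CaseTwo.syl_cj m h.syl, ?_, isMinPar_cj' h.min m, ?_, cj_mono m h.le, fun hle => h.nM ?_,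
    fun hle => h.nx ?_, ?_⟩
  · have := cj_mono m h.BT
    rwa [cj_eq_of_mem_normalizer hm] at this
  · have := cj_mono m h.char2
    rwa [cj_inf, cj_centralizer, ← o2_cj] at this
  · have := cj_mono m⁻¹ hle
    rwa [cj_inv_cj, hX'] at this
  · have := cj_mono m⁻¹ hle
    rwa [← o2_cj, cj_inv_cj, nx_cj n (inv_mem hm)] at this
  · have := cj_mono m h.quiet
    rwa [cj_centralizer, ← NO3S.Level.zc_cj] at this

section line

variable {ι : Type} [Finite ι] {L W Z C A : ι → Subgroup G} {q : ℕ}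

/-- Pairs are invariant under conjugation by `N_G(B)`. -/
theorem pair_cj (h : Ln P n L W Z C A q) {X H T F : Subgroup G}
    (hN : normalizer (BT n : Set G) ≤ X) (hp : Pair P n X H T F) {m : G}
    (hm : m ∈ normalizer (BT n : Set G)) : Pair P n X (cj m H) (cj m T) (cj m F) := by
  have hX : cj m X = X := cj_eq_of_mem_normalizer (le_normalizer (hN hm))
  have hX' : cj m⁻¹ X = X := cj_eq_of_mem_normalizer (le_normalizer (inv_mem (hN hm)))
  have hJ := cj_eq_of_mem_normalizer ((lb n).norm_B_le hm)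
  obtain ⟨T₀, Y, hY, h1, h2⟩ := hp.inQ
  refine ⟨ZN.CaseTwo.syl_cj m hp.syl, ?_, fun hle => hp.nM ?_, fun K h1 h2 => ?_, ?_, ?_,
    cj m T₀, cj m Y, quiet_conjN hY hN hm, cj_mono m h1, ?_⟩
  · have := cj_mono m hp.BT
    rwa [cj_eq_of_mem_normalizer hm] at this
  · have := cj_mono m⁻¹ hle
    rwa [cj_inv_cj, hX'] at this
  · have h3 := hp.min (cj m⁻¹ K) (by
      have := cj_mono m⁻¹ h1
      rwa [cj_inv_cj] at this) (by
      have h4 := cj_mono m⁻¹ h2.le
      rw [cj_inv_cj] at h4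
      refine lt_of_le_of_ne h4 fun e => h2.ne ?_
      rw [← e, cj_cj_inv])
    have h4 := cj_mono m h3
    rwa [cj_cj_inv, hX] at h4
  · have := cj_mono m hp.VO
    rwa [(h.norm hm).1, ← o2_cj] at this
  · have := cj_mono m hp.fix
    rwa [cj_inf, hJ, cj_centralizer, cj_centralizer, ← o2_cj] at this
  · have := cj_mono m h2
    rwa [← o2_cj, ← o2_cj] at this

/-- `V` commutes with its conjugates under `F` (any `q`). -/
theorem comm_of_pair (h : Ln P n L W Z C A q) {X H T F : Subgroup G} (hp : Pair P n X H T F) {f : G} (hf : f ∈ F)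
    {x y : G} (hx : x ∈ zl (S : Subgroup G) P) (hy : y ∈ zl (S : Subgroup G) P) :
    x * (f * y * f⁻¹) = f * y * f⁻¹ * x := by
  have hV := hp.VO
  have hTn := two_norm h hp.syl.2.1 hp.BT
  have hO : o2 F ≤ T := o2_le_syl hp.syl
  have hcO : cj f (o2 F) = o2 F := cj_eq_of_mem_normalizer (le_normalizer_o2 F hf)
  have h1 : cj f (zl (S : Subgroup G) P) ≤ normalizer (zl (S : Subgroup G) P : Set G) := by
    have := cj_mono f hV
    rw [hcO] at this
    exact (this.trans hO).trans hTn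
  have h2 : zl (S : Subgroup G) P ≤ normalizer ((cj f (zl (S : Subgroup G) P) : Subgroup G) : Set G) := by
    have h3 := cj_mono f ((hO.trans hTn : o2 F ≤ normalizer (zl (S : Subgroup G) P : Set G)))
    rw [hcO, cj_normalizer] at h3
    exact hV.trans h3
  by_contra hne
  refine h.hyp.noFF ⟨P, P, f, h.hyp.star, h.hyp.star, h2, h1, fun e => hne ?_⟩
  have h4 := commutator_eq_bot_iff_le_centralizer.1 e
  exact (mem_centralizer_iff.1 (h4 hx) (f * y * f⁻¹) ⟨y, hy, rfl⟩).symm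

/-- `⟨V ^ F⟩` is elementary abelian. -/
theorem lam (h : Ln P n L W Z C A q) {X H T F : Subgroup G} (hp : Pair P n X H T F) :
    IsElementaryAbelian 2 (NoFF.Basic.V (zl (S : Subgroup G) P) F) := by
  have hcomm : ∀ f ∈ F, ∀ x ∈ zl (S : Subgroup G) P, ∀ y ∈ zl (S : Subgroup G) P,
      x * (f * y * f⁻¹) = f * y * f⁻¹ * x := fun f hf x hx y hy => comm_of_pair h hp hf hx hy
  have h1 := Swap.elab_iSup (W := fun f : F => cj (f : G) (zl (S : Subgroup G) P)) (fun f f' x hx y hy => ?_)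
    fun f x hx => ?_
  · exact Swap.elab_of h1.1 h1.2
  · rw [mem_cj] at hx hy
    have h2 := hcomm ((f : G)⁻¹ * f') (mul_mem (inv_mem f.2) f'.2) _ hx _ hy
    have e1 : (f : G)⁻¹ * f' * ((f' : G)⁻¹ * y * f') * ((f : G)⁻¹ * f')⁻¹ = (f : G)⁻¹ * y * f := by group
    rw [e1] at h2
    have h3 := congrArg (fun t => (f : G) * t * (f : G)⁻¹) h2
    have e2 : (f : G) * ((f : G)⁻¹ * x * f * ((f : G)⁻¹ * y * f)) * (f : G)⁻¹ = x * y := by group
    have e3 : (f : G) * ((f : G)⁻¹ * y * f * ((f : G)⁻¹ * x * f)) * (f : G)⁻¹ = y * x := by group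
    exact e2.symm.trans (h3.trans e3)
  · rw [mem_cj] at hx
    have h2 := SQ1.Bau.elem_sq h.fr.el _ hx
    rw [pow_two] at h2
    have e : x * x = f * ((f : G)⁻¹ * x * f * ((f : G)⁻¹ * x * f)) * (f : G)⁻¹ := by group
    rw [e, h2]; group

end line

variable {K : Type} [Field K] [Finite K] {k : ℕ}
  {M : NatC K (S : Subgroup G) P (zl (S : Subgroup G) P) (cv (S : Subgroup G) P) k}
  {L Z A : Fin k → Subgroup G}

/-- The chosen pair. -/
structure Sel (D : Dt P n M L Z A) (X H T F : Subgroup G) : Prop where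
  pair : Pair P n X H T F
  TS : T ≤ (S : Subgroup G)
  cen : ∀ Y : Subgroup G, Y ≤ ZT n → ZT n ⊓ centralizer (T : Set G) < Y → centralizer (Y : Set G) ≤ X

theorem Sel.cen2 {D : Dt P n M L Z A} {X H T F : Subgroup G} (s : Sel D X H T F) (_ : ∀ i, i ∈ Phi Z T) :
    ∀ Y : Subgroup G, Y ≤ ZT n → ZT n ⊓ centralizer (T : Set G) < Y → centralizer (Y : Set G) ≤ X := s.cen

/-- **The choice of the pair.** -/
theorem exists_sel (D : Dt P n M L Z A) {X Z₁ : Subgroup G} (hZ : Z₁ ≤ zc (S : Subgroup G)) (hZ1 : Z₁ ≠ ⊥)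
    (hBM : BM n X (centralizer (Z₁ : Set G))) (hQ : QFix n X (centralizer (Z₁ : Set G)))
    (hD : centralizer (ZT n : Set G) ≤ X) (hN : normalizer (BT n : Set G) ≤ X)
    (hM : ¬ centralizer (Z₁ : Set G) ≤ X) : ∃ T F : Subgroup G, Sel D X (centralizer (Z₁ : Set G)) T F := by
  classical
  have hZJ : Z₁ ≤ ZT n := hZ.trans (zc_S_le n)
  have hcS : ∀ z ∈ Z₁, ∀ s ∈ (S : Subgroup G), s * z = z * s := fun z hz => (mem_zc.1 (hZ hz)).2.2
  obtain ⟨C₀, hC⟩ := (Set.toFinite {Y : Subgroup G | Y ≤ ZT n ∧ Z₁ ≤ Y ∧ ¬ centralizer (Y : Set G) ≤ X}).exists_maximal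
    ⟨Z₁, hZJ, le_rfl, hM⟩
  obtain ⟨h1, h2, h3⟩ := hC.prop
  have hmax : ∀ Y : Subgroup G, Y ≤ ZT n → C₀ < Y → centralizer (Y : Set G) ≤ X := by
    intro Y hY hlt
    by_contra hcon
    exact hlt.not_ge (hC.le_of_ge ⟨hY, h2.trans hlt.le, hcon⟩ hlt.le)
  have hC1 : C₀ ≠ ⊥ := fun e => hZ1 (le_bot_iff.1 (e ▸ h2))
  have hle : centralizer (C₀ : Set G) ≤ centralizer (Z₁ : Set G) := centralizer_le (by exact_mod_cast h2)
  have hBH : BT n ≤ centralizer (C₀ : Set G) := (lb n).Bc.trans (centralizer_le (by exact_mod_cast h1))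
  obtain ⟨T, F, hp⟩ := exists_pair D.ln (hBM.mono hle) (hQ.mono hle) hD hN hBH
    (Swap.char2_cent D.ln.hyp.ctx.char2 ((ZT_two n).to_le h1) hC1) h3
  -- `C_{Z_J}(T) = C₀`
  have hTC : ZT n ⊓ centralizer (T : Set G) = C₀ := by
    have h4 : C₀ ≤ ZT n ⊓ centralizer (T : Set G) := le_inf h1 (le_centralizer_iff.1 (hp.syl.1.trans hp.le))
    by_contra hne
    apply hp.nM
    refine le_trans ?_ (hmax _ inf_le_left (lt_of_le_of_ne h4 (Ne.symm hne)))
    rw [le_centralizer_iff]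
    exact fun x hx => hp.fix ⟨hx.1, centralizer_le (by exact_mod_cast o2_le_syl hp.syl) hx.2⟩
  -- conjugate into `S`
  have hsyl : Syl (S : Subgroup G) (normalizer (BT n : Set G)) :=
    ZN.CaseTwo.syl_of_sylow S ((lb n).two_le S.isPGroup' D.BS)
  obtain ⟨T₁, hT₁, hTT₁⟩ := exists_syl hp.syl.2.1 ((lb n).two_le hp.syl.2.1 hp.BT)
  obtain ⟨m, hm, hmS⟩ := syl_conj hT₁ hsyl
  have hTS : cj m T ≤ (S : Subgroup G) := by
    rw [← hmS]
    exact cj_mono m hTT₁
  have hJ := cj_eq_of_mem_normalizer ((lb n).norm_B_le hm)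
  have hJ' := cj_eq_of_mem_normalizer ((lb n).norm_B_le (inv_mem hm))
  have hX : cj m X = X := cj_eq_of_mem_normalizer (le_normalizer (hN hm))
  have hTC' : ZT n ⊓ centralizer ((cj m T : Subgroup G) : Set G) = cj m C₀ := by
    rw [← hTC, cj_inf, cj_centralizer, hJ]
  refine ⟨cj m T, cj m F, (pair_cj D.ln hN hp hm).mono ?_, hTS, fun Y hY hlt => ?_⟩
  · rw [cj_centralizer, ← hTC']
    refine centralizer_le ?_
    exact_mod_cast le_inf hZJ fun z hz => mem_centralizer_iff.2 fun t ht => hcS z hz t (hTS ht)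
  · rw [hTC'] at hlt
    have h4 := hmax (cj m⁻¹ Y) (by
      have := cj_mono m⁻¹ hY
      rwa [hJ'] at this) (lt_of_le_of_ne (by
        have := cj_mono m⁻¹ hlt.le
        rwa [cj_inv_cj] at this) fun e => hlt.ne (by rw [e, cj_cj_inv]))
    have h5 := cj_mono m h4
    rwa [hX, cj_centralizer, cj_cj_inv] at h5

variable {D : Dt P n M L Z A} {X H T F : Subgroup G}

theorem Sel.pra (s : Sel D X H T F) (hN : normalizer (BT n : Set G) ≤ X) :
    PrA (BT n) (zl (S : Subgroup G) P) (ZT n) T F X := by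
  have hSX : (S : Subgroup G) ≤ X := ((lb n).two_le S.isPGroup' D.BS).trans hN
  exact ⟨fun _ hg => mem_of_cj_B_le n hSX hN hg, s.pair.syl, s.pair.BT, s.TS.trans hSX, s.pair.nM, s.pair.min,
    s.pair.VO, s.pair.fix, s.cen⟩

/-- **CASE I.** -/
theorem phi_univ (s : Sel D X H T F) (hQ : QFam P n X H) (hD : centralizer (ZT n : Set G) ≤ X)
    (hN : normalizer (BT n : Set G) ≤ X) (hK : 4 ≤ Nat.card K) : ∀ i, i ∈ Phi Z T := by
  have hSX : (S : Subgroup G) ≤ X := ((lb n).two_le S.isPGroup' D.BS).trans hN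
  have hZM : normalizer (ZT n : Set G) ≤ X := (lb n).norm_zj_le.trans (sup_le hD hN)
  exact PrA.caseOne D.bg (s.pra hN) D.ln.fr s.TS hK (lam D.ln s.pair)
    (exists_fam D.ln s.pair hQ hD (s.TS.trans hSX) hZM)

end Cfsg.Agent.Omega.OM.SWT
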