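import Cfsg.Agent.Omega.OM.Lev.Uni
import Cfsg.Agent.Omega.OM.Lev.Dich
import Cfsg.Agent.Omega.OM.Lev.FixPt
import Cfsg.Agent.Omega.OM.Lev.Wc
import Cfsg.Agent.Omega.OM.Lev.BlkGen
import Cfsg.Agent.Omega.OM.UniPlus
import Cfsg.Agent.Omega.OM.Swap.Pair
import Cfsg.Agent.Omega.OM.Swap.Fam.SitF
import Cfsg.Agent.Omega.NO3S.Level.Fam
import Cfsg.Agent.Omega.NO3S.Basic
import Cfsg.Agent.Omega.Node.MulG

/-!
# THEOREM SWQ over a general top level `K₀`: the ground frame and the pairs `(T, F)`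

`LV S` : a level `K₀` of `S`; `ZT n = Ω₁Z(nxt S K₀)`, `BT n = C_S(ZT n)`; `Ln`, `Pair`, `Phi`, `exists_pair`, `exists_fam` as
in `OM/SwapL/{Frame, Pair, Off}.lean` (helper590), with `lev S n` replaced by `K₀` and `lev S (n + 1)` by `nxt S K₀`.
The stages below `K₀` are all levels `D ≤ K₀`; a `Y` without stage (`Wrd n Y`) needs the sockets `QFix`, `QFam`; the
minimal parabolics which move `Ω₁Z(T)` are the socket `BM`.
-/

set_option autoImplicit false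
set_option linter.unusedSectionVars false

namespace Cfsg.Agent.Omega.OM.SWT

open Subgroup Cfsg Cfsg.Agent.ZN.ChoiceBase Cfsg.Agent.ZN.ChoiceSit
open Cfsg.Agent.ZN (jj zj bau zc zl o2)
open Cfsg.Agent.MinSimple.MinParabolic (IsMinPar)
open Cfsg.Agent.MinSimple.VModule (oddGen oddGen_le)
open Cfsg.Agent.Omega.NO3S (HypN)
open Cfsg.Agent.Omega.NO3S.Level (Lev nxt BO)
open Cfsg.Agent.Omega.OM.LevD (LB K0)
open Cfsg.Agent.Omega.OM.Lev.Uni (FrL)
open Cfsg.Agent.Omega.OM.UniPlus (NB)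
open Cfsg.Agent.Omega.OM.WeakCl (WC)
open Cfsg.Agent.Omega.OM.Swap.Fam (Fm BF fm_AA fm_best)

universe u

variable {G : Type u} [Group G] [Finite G]

/-- A level of `S`. -/
structure LV (S : Sylow 2 G) where
  K : Subgroup G
  lev : Lev (S : Subgroup G) K

variable {S : Sylow 2 G}

theorem LV.wc (n : LV S) : NO3b.Wc.WC (S : Subgroup G) n.K := Lev.Wc.wc_Lev n.lev

/-- `nxt S K` -/
def LV.nx (n : LV S) : Subgroup G := nxt (S : Subgroup G) n.K

/-- `Z_J = Ω₁Z(nxt S K)` -/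
noncomputable def ZT (n : LV S) : Subgroup G := zc (nxt (S : Subgroup G) n.K)

/-- `B = C_S(Z_J)` -/
noncomputable def BT (n : LV S) : Subgroup G := (S : Subgroup G) ⊓ centralizer (zc (nxt (S : Subgroup G) n.K) : Set G)

/-- The ground frame at the level `n`. -/
structure Ln {ι : Type} (P : Subgroup G) (n : LV S) (L W Z C A : ι → Subgroup G) (q : ℕ) : Prop where
  hyp : HypN S P
  le : n.K ≤ o2 P
  fr : FrL (BT n) (o2 P) (zl (S : Subgroup G) P) (zc n.K) (ZT n) L W Z C A q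
  two : ∀ i : ι, ∃ j, j ≠ i

theorem lb (n : LV S) : LB S n.nx (BT n) (ZT n) := Node.MulG.lb_nxt n.wc

theorem wc (n : LV S) : WC (BT n) := Lev.Wc.wc_cent_Lev n.lev.next rfl

/-- `N_G(B) ≤ N_G(K)` -/
theorem norm_K (n : LV S) : normalizer (BT n : Set G) ≤ normalizer (n.K : Set G) := Lev.Wc.norm_B_Lev n.lev rfl

theorem LV.zc_le {D n : LV S} (h : D.K ≤ n.K) : zc n.K ≤ zc D.K := D.lev.zc_le_zc h n.lev.le

/-- `nxt` is monotone. -/
theorem LV.nx_mono {D n : LV S} (h : D.K ≤ n.K) : D.nx ≤ n.nx := by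
  have hz := LV.zc_le h
  refine sup_le ((inf_le_inf_left _ (centralizer_le hz)).trans (NO3S.Level.inf_centralizer_le_nxt _ _))
    (sSup_le fun A hA => NO3S.Level.BO.le_nxt ⟨hA.1, ?_⟩)
  have hb := NO3S.Level.bfam_BO (S := (S : Subgroup G)) (K := D.K) (U := zc n.K) (L := ⊥) hz bot_le
  exact ⟨hb.elem A hA, fun Y h1 h2 => hb.best A hA Y h2 h1⟩

/-- a level of `S` is a level of every 2-group over it. -/
theorem LV.levT (n : LV S) {T : Subgroup G} (hT : IsPGroup 2 T) (hle : n.K ≤ T) : Lev T n.K where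
  le := hle
  jjle := by
    rw [MinSimple.EmptyTI.jj_eq S hT (n.lev.jjle.trans hle)]
    exact n.lev.jjle
  norm := fun _ h1 h2 _ hg => mem_normalizer_iff_cj.2 (LevD.norm_of_wc n.wc (hT.to_le h2) h1 hg)

theorem LV.nxtT (n : LV S) {T : Subgroup G} (hT : IsPGroup 2 T) (hle : n.nx ≤ T) : nxt T n.K = n.nx :=
  LevD.nxt_eq n.wc (NO3S.Level.wc_nxt n.wc) hT hle

theorem LV.K_le_nx (n : LV S) : n.K ≤ n.nx := NO3S.Level.le_nxt n.lev.le

section line

variable {ι : Type} {P : Subgroup G} {n : LV S} {L W Z C A : ι → Subgroup G} {q : ℕ}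

variable [Finite ι]

/-- **(U1)** -/
theorem Ln.norm (h : Ln P n L W Z C A q) {g : G} (hg : g ∈ normalizer (BT n : Set G)) :
    cj g (zl (S : Subgroup G) P) = zl (S : Subgroup G) P ∧
      ∀ i, ∃ j, cj g (Z i) = Z j ∧ cj g (W i) ≤ W j ⊔ ZT n :=
  h.fr.norm_of hg (NO3S.Level.normalizer_le_zc _ (norm_K n hg))

theorem Ln.norm_le (h : Ln P n L W Z C A q) :
    normalizer (BT n : Set G) ≤ normalizer (zl (S : Subgroup G) P : Set G) := fun g hg => by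
  rw [mem_normalizer_iff_cj]
  exact (h.norm hg).1

end line

/-! ### Pairs -/

/-- **(F1)** a conjugate of `B` inside `M` is a conjugate by an element of `M`. -/
theorem mem_of_cj_B_le (n : LV S) {M : Subgroup G} (hSM : (S : Subgroup G) ≤ M)
    (hN : normalizer (BT n : Set G) ≤ M) {g : G} (h : cj g (BT n) ≤ M) : g ∈ M := by
  have hS : Syl (S : Subgroup G) M := ⟨hSM, S.isPGroup', fun Q _ hQ hle => S.is_maximal' hQ hle⟩
  have h2 : IsPGroup 2 (cj g (BT n)) := isPGroup_cj g (lb n).Bp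
  obtain ⟨T, hT, hle⟩ := exists_syl h2 h
  obtain ⟨m, hm, rfl⟩ := syl_conj hS hT
  have h3 : cj (m⁻¹ * g) (BT n) ≤ (S : Subgroup G) := by
    have := cj_mono m⁻¹ hle
    rwa [cj_inv_cj, cj_cj] at this
  have h4 := wc n _ S.isPGroup' (lb n).BS _ h3
  have h5 : m⁻¹ * g ∈ M := hN (mem_normalizer_iff_cj.2 h4)
  have h6 := mul_mem hm h5
  rwa [mul_inv_cancel_left] at h6

/-- The stages of `Y` below `K₀` are void : `J(S) ≤ O₂(Y)`, `K₀ ≰ O₂(Y)`, and `nxt S D ≤ O₂(Y)` for every level `D ≤ K₀`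
of `S` in `O₂(Y)`. -/
structure Wrd (n : LV S) (Y : Subgroup G) : Prop where
  jj : jj (S : Subgroup G) ≤ o2 Y
  nK : ¬ n.K ≤ o2 Y
  nxt : ∀ D : LV S, D.K ≤ n.K → D.K ≤ o2 Y → D.nx ≤ o2 Y

/-- A quiet minimal parabolic `Y ≤ H` over a 2-group `T ≥ B`, not contained in `M`. -/
structure Quiet (n : LV S) (M H T Y : Subgroup G) : Prop where
  syl : Syl T Y
  BT : BT n ≤ T
  min : IsMinPar T Y
  char2 : Y ⊓ centralizer (o2 Y : Set G) ≤ o2 Y
  le : Y ≤ H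
  nM : ¬ Y ≤ M
  nx : ¬ n.nx ≤ o2 Y
  quiet : Y ≤ centralizer (zc T : Set G)

/-- The pairs `(T, F)` of STEP 0. -/
structure Pair (P : Subgroup G) (n : LV S) (M H T F : Subgroup G) : Prop where
  syl : Syl T F
  BT : BT n ≤ T
  nM : ¬ F ≤ M
  min : ∀ K : Subgroup G, T ≤ K → K < F → K ≤ M
  VO : zl (S : Subgroup G) P ≤ o2 F
  fix : ZT n ⊓ centralizer (o2 F : Set G) ≤ centralizer (F : Set G)
  inQ : ∃ T₀ Y : Subgroup G, Quiet n M H T₀ Y ∧ F ≤ Y ∧ o2 Y ≤ o2 F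

theorem Pair.le {P : Subgroup G} {n : LV S} {M H T F : Subgroup G} (h : Pair P n M H T F) : F ≤ H := by
  obtain ⟨_, _, h1, h2, -⟩ := h.inQ
  exact h2.trans h1.le

/-- Minimal parabolics `Y ≤ H` over `T ≥ B` which move `Ω₁Z(T)` lie in `M`. -/
def BM (n : LV S) (M H : Subgroup G) : Prop :=
  ∀ T Y : Subgroup G, Syl T Y → BT n ≤ T → IsMinPar T Y →
    Y ⊓ centralizer (o2 Y : Set G) ≤ o2 Y → Y ≤ H → ¬ n.nx ≤ o2 Y →
    ¬ Y ≤ centralizer (zc T : Set G) → Y ≤ M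

/-- Fixed points do not lift, for the quiet `Y ≤ H` without stage. -/
def QFix (n : LV S) (M H : Subgroup G) : Prop :=
  ∀ T Y : Subgroup G, Quiet n M H T Y → Wrd n Y → ZT n ⊓ zc (o2 Y) ≤ centralizer (oddGen Y : Set G)

/-- **The stage of `Y`.** -/
theorem stage (n : LV S) {Y : Subgroup G} (hn : ¬ n.nx ≤ o2 Y) (hw : ¬ Wrd n Y) :
    ¬ jj (S : Subgroup G) ≤ o2 Y ∨ ∃ D : LV S, D.K ≤ n.K ∧ D.K ≤ o2 Y ∧ ¬ D.nx ≤ o2 Y := by
  by_contra hcon
  push Not at hcon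
  obtain ⟨h1, h2⟩ := hcon
  exact hw ⟨h1, fun h3 => hn (h2 n le_rfl h3), h2⟩

theorem fixPt_of (n : LV S) {T Y : Subgroup G} (hT : Syl T Y) (hle : n.nx ≤ T) (hmin : IsMinPar T Y)
    (hn : ¬ n.nx ≤ o2 Y) (hz : Y ≤ centralizer (zc T : Set G)) (hw : ¬ Wrd n Y) :
    zc (o2 Y) ≤ centralizer (oddGen Y : Set G) := by
  rcases stage n hn hw with h1 | ⟨D, h1, h2, h3⟩
  · refine FixPt.fixPt FF.Glob.aStmt hT hmin ?_ hz
    rwa [MinSimple.EmptyTI.jj_eq S hT.2.1 ((n.lev.jjle.trans n.K_le_nx).trans hle)]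
  · have h4 : D.nx ≤ T := (LV.nx_mono h1).trans hle
    refine LevD.fixPt_nxt hT hmin (D.levT hT.2.1 (D.K_le_nx.trans h4)) h2 ?_ hz
    rwa [D.nxtT hT.2.1 h4]

/-- A quiet minimal parabolic `Y ≤ H` which is not contained in `M`. -/
theorem genM' {K B ZJ H : Subgroup G} (hB : LB S K B ZJ) {M T : Subgroup G} (hD : centralizer (ZJ : Set G) ≤ M)
    (hN : normalizer (B : Set G) ≤ M) (hT : Syl T H) (hBT : B ≤ T)
    (hblk : ∀ Y : Subgroup G, IsMinPar T Y → Y ≤ H → ¬ K ≤ o2 Y → ¬ Y ≤ centralizer (zc T : Set G) → Y ≤ M)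
    (hHM : ¬ H ≤ M) :
    ∃ Y : Subgroup G, IsMinPar T Y ∧ Y ≤ H ∧ ¬ K ≤ o2 Y ∧ Y ≤ centralizer (zc T : Set G) ∧ ¬ Y ≤ M := by
  have hK : K0 ZJ (fun _ _ => False) ≤ M := sup_le hD (iSup_le fun i => i.2.elim)
  have hZM := LevD.norm_le_M hB hK hN
  have hTN : normalizer (T : Set G) ≤ M := (hB.nrm T hT.2.1 (hB.KB.trans hBT)).trans hZM
  by_contra hcon
  push Not at hcon
  apply hHM
  refine MinSimple.MinParabolic.le_of_forall hT.1 (inf_le_right.trans hTN) fun Y hY hYH => ?_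
  by_cases h1 : K ≤ o2 Y
  · exact (le_normalizer_o2 Y).trans ((hB.nrm _ (isPGroup_o2 Y) h1).trans hZM)
  by_cases h2 : Y ≤ centralizer (zc T : Set G)
  · exact hcon Y hY hYH h1 h2
  · exact hblk Y hY hYH h1 h2

/-- the indices fixed by `T` -/
def Phi {ι : Type} (Z : ι → Subgroup G) (T : Subgroup G) : Set ι := {i | ∀ t ∈ T, cj t (Z i) = Z i}

section line

variable {ι : Type} [Finite ι] {P : Subgroup G} {n : LV S} {L W Z C A : ι → Subgroup G} {q : ℕ}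

/-- a 2-group over `B` normalises `V`. -/
theorem two_norm (h : Ln P n L W Z C A q) {T : Subgroup G} (hT : IsPGroup 2 T)
    (hB : BT n ≤ T) : T ≤ normalizer (zl (S : Subgroup G) P : Set G) :=
  ((lb n).two_le hT hB).trans h.norm_le

omit [Finite ι] in
theorem V_le_B (h : Ln P n L W Z C A q) : zl (S : Subgroup G) P ≤ BT n :=
  h.fr.VQ.trans h.fr.QB

/-- `V ≤ O₂(Y)` if `Y` centralises `Ω₁(Z(T))`, `B ≤ T ≤ Y`. -/
theorem V_le_o2 (h : Ln P n L W Z C A q) {T Y : Subgroup G} (hT : IsPGroup 2 T)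
    (hB : BT n ≤ T) (hTY : T ≤ Y) (hY : Y ≤ centralizer (zc T : Set G)) :
    zl (S : Subgroup G) P ≤ o2 Y := by
  obtain ⟨S', hS'⟩ := hT.exists_le_sylow
  obtain ⟨g, hg⟩ := MulAction.exists_smul_eq G S S'
  have hg2 : (S' : Subgroup G) = cj g (S : Subgroup G) := by
    rw [← hg, Sylow.coe_subgroup_smul]
    rfl
  have hgN : g ∈ normalizer (BT n : Set G) := by
    have h1 : cj g⁻¹ (BT n) ≤ (S : Subgroup G) := by
      have := cj_mono g⁻¹ ((hB.trans hS').trans hg2.le)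
      rwa [cj_inv_cj] at this
    have h2 := wc n _ S.isPGroup' (lb n).BS _ h1
    have h3 := inv_mem (mem_normalizer_iff_cj.2 h2)
    rwa [inv_inv] at h3
  have h3 : zc (S' : Subgroup G) ≤ zc T := by
    intro z hz
    have h4 : z ∈ T := by
      rw [hg2, NO3S.Level.zc_cj] at hz
      have h5 : zc (S : Subgroup G) ≤ ZT n := n.lev.next.zc_le
      have h6 := cj_mono g h5 hz
      rw [cj_eq_of_mem_normalizer ((lb n).norm_B_le hgN)] at h6
      exact hB ((lb n).ZB h6)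
    obtain ⟨h5, h6, h7⟩ := mem_zc.1 hz
    exact mem_zc.2 ⟨h4, h6, fun y hy => h7 y (hS' hy)⟩
  have h4 : Y ≤ centralizer (zc (S' : Subgroup G) : Set G) := hY.trans (centralizer_le h3)
  have h5 : zl (S : Subgroup G) P ≤ o2 (centralizer (zc (S' : Subgroup G) : Set G)) := by
    have h6 := cj_mono g (h.hyp.low P h.hyp.star)
    rw [(h.norm hgN).1, ← pCore_cj, cj_centralizer, ← LemmaK.Main.zc_cj, ← hg2] at h6
    exact h6
  have h6 : zl (S : Subgroup G) P ≤ o2 (centralizer (zc (S' : Subgroup G) : Set G)) ⊓ Y :=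
    le_inf h5 (((V_le_B h).trans hB).trans hTY)
  refine h6.trans (le_o2 ((isPGroup_o2 _).to_le inf_le_left) inf_le_right ?_)
  intro y hy
  rw [mem_normalizer_iff_cj, cj_inf, cj_eq_of_mem_normalizer (le_normalizer_o2 _ (h4 hy)),
    cj_eq_of_mem_normalizer (le_normalizer hy)]

/-- **Existence of pairs.** -/
theorem exists_pair (h : Ln P n L W Z C A q) {M H : Subgroup G} (hBM : BM n M H) (hQ : QFix n M H)
    (hD : centralizer (ZT n : Set G) ≤ M) (hN : normalizer (BT n : Set G) ≤ M)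
    (hB : BT n ≤ H) (hc : H ⊓ centralizer (o2 H : Set G) ≤ o2 H) (hM : ¬ H ≤ M) :
    ∃ T F : Subgroup G, Pair P n M H T F := by
  have : Fact (Nat.Prime 2) := ⟨Nat.prime_two⟩
  obtain ⟨T₀, hT₀, hBT₀⟩ := exists_syl (lb n).Bp hB
  have hsylY : ∀ Y : Subgroup G, IsMinPar T₀ Y → Y ≤ H → Syl T₀ Y := fun Y hY hYH =>
    ⟨hY.le, hT₀.2.1, fun Q hQ h2 hTQ => hT₀.2.2 Q (hQ.trans hYH) h2 hTQ⟩
  have hcY' : ∀ Y : Subgroup G, IsMinPar T₀ Y → Y ≤ H → Y ⊓ centralizer (o2 Y : Set G) ≤ o2 Y := by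
    intro Y hY hYH
    have h4 : o2 H ≤ o2 Y :=
      le_o2 (isPGroup_o2 H) ((o2_le_syl hT₀).trans hY.le) (hYH.trans (le_normalizer_o2 H))
    rintro x ⟨hx, hxc⟩
    exact h4 (hc ⟨hYH hx, centralizer_le (by exact_mod_cast h4) hxc⟩)
  have hKT : n.nx ≤ T₀ := (lb n).KB.trans hBT₀
  have hfix : ∀ Y : Subgroup G, IsMinPar T₀ Y → Y ≤ H → ¬ Y ≤ M → ¬ n.nx ≤ o2 Y →
      Y ≤ centralizer (zc T₀ : Set G) → ZT n ⊓ zc (o2 Y) ≤ centralizer (oddGen Y : Set G) := by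
    intro Y hY hYH hYM hYK hYc
    by_cases hw : Wrd n Y
    · exact hQ T₀ Y ⟨hsylY Y hY hYH, hBT₀, hY, hcY' Y hY hYH, hYH, hYM, hYK, hYc⟩ hw
    · exact inf_le_right.trans (fixPt_of n (hsylY Y hY hYH) hKT hY hYK hYc hw)
  -- the minimal parabolic `Y`
  obtain ⟨Y, hYm, hYH, hYK, hYc, hYM⟩ := genM' (lb n) hD hN hT₀ hBT₀
    (fun Y hY hYH => hBM T₀ Y (hsylY Y hY hYH) hBT₀ hY (hcY' Y hY hYH) hYH) hM
  have hTM : T₀ ≤ M := ((lb n).two_le hT₀.2.1 hBT₀).trans hN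
  have hTY : Syl T₀ Y := hsylY Y hYm hYH
  have hcY := hcY' Y hYm hYH
  have hVY : zl (S : Subgroup G) P ≤ o2 Y := V_le_o2 h hT₀.2.1 hBT₀ hYm.le hYc
  -- `Y₁ = O²(Y) O₂(Y) B`
  set Y₁ : Subgroup G := oddGen Y ⊔ (o2 Y ⊔ BT n) with hY₁
  have hY₁Y : Y₁ ≤ Y := sup_le (oddGen_le Y) (sup_le (o2_le Y) (hBT₀.trans hYm.le))
  have hOB : IsPGroup 2 (o2 Y ⊔ BT n : Subgroup G) :=
    hT₀.2.1.to_le (sup_le (o2_le_syl hTY) hBT₀)
  obtain ⟨T, hT, hOT⟩ := exists_syl hOB (le_sup_right : o2 Y ⊔ BT n ≤ Y₁)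
  have hY₁M : ¬ Y₁ ≤ M := by
    intro hle
    apply hYM
    rw [← Dich.oddGen_sup_syl hTY]
    exact sup_le (le_sup_left.trans hle) hTM
  obtain ⟨F, hF⟩ := (Set.toFinite {K : Subgroup G | T ≤ K ∧ K ≤ Y₁ ∧ ¬ K ≤ M}).exists_minimal
    ⟨Y₁, hT.1, le_rfl, hY₁M⟩
  obtain ⟨hTF, hFY₁, hFM⟩ := hF.prop
  have hFY : F ≤ Y := hFY₁.trans hY₁Y
  have hsyl : Syl T F := ⟨hTF, hT.2.1, fun Q hQ h2 hle => hT.2.2 Q (hQ.trans hFY₁) h2 hle⟩
  have hBT : BT n ≤ T := le_sup_right.trans hOT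
  have hOF : o2 Y ≤ o2 F :=
    le_o2 (isPGroup_o2 Y) ((le_sup_left.trans hOT).trans hTF) (hFY.trans (le_normalizer_o2 Y))
  refine ⟨T, F, ⟨hsyl, hBT, hFM, fun K hTK hKF => ?_, hVY.trans hOF, ?_,
    T₀, Y, ⟨hTY, hBT₀, hYm, hcY, hYH, hYM, hYK, hYc⟩, hFY, hOF⟩⟩
  · by_contra hKM
    exact hKF.not_ge (hF.le_of_le ⟨hTK, hKF.le.trans hFY₁, hKM⟩ hKF.le)
  · rintro z ⟨hz, hzc⟩
    have hzB : z ∈ BT n := (lb n).ZB hz
    have hzO : ∀ y ∈ o2 Y, y * z = z * y := fun y hy => mem_centralizer_iff.1 hzc y (hOF hy)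
    have hz1 : z ∈ zc (o2 Y) := by
      refine mem_zc.2 ⟨hcY ⟨hYm.le (hBT₀ hzB), mem_centralizer_iff.2 hzO⟩, (lb n).sq z hz, hzO⟩
    have hz2 : z ∈ centralizer (oddGen Y : Set G) := hfix Y hYm hYH hYM hYK hYc ⟨hz, hz1⟩
    have hle : Y₁ ≤ centralizer ({z} : Set G) := by
      refine sup_le (fun y hy => ?_) (sup_le (fun y hy => ?_) fun y hy => ?_) <;>
        rw [mem_centralizer_singleton_iff]
      · exact mem_centralizer_iff.1 hz2 y hy
      · exact hzO y hy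
      · exact (mem_centralizer_iff.1 ((lb n).Bc hy) z hz).symm
    rw [mem_centralizer_iff]
    intro y hy
    exact mem_centralizer_singleton_iff.1 (hle (hFY₁ hy))

end line

/-! ### The family of offenders of a pair -/

section fam

variable {ι : Type} {P : Subgroup G} {n : LV S} {L W Z C A : ι → Subgroup G} {q : ℕ}

/-- `F` has a family of offenders with a member in `T` which is not in `O₂(F)`; the members in `T` lie in `B`, and they
centralise `V` or are best offenders on `Ω₁Z(K₀)`. -/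
def FamF (P : Subgroup G) (n : LV S) (T F : Subgroup G) : Prop :=
  ∃ 𝓐 : Set (Subgroup G),
    (∀ Λ : Subgroup G, IsElementaryAbelian 2 Λ → Λ ≤ F → F ≤ normalizer (Λ : Set G) →
      Λ ≤ NoFF.Basic.V (zl (S : Subgroup G) P) F → Fm F Λ 𝓐) ∧
    (∃ X ∈ 𝓐, X ≤ T ∧ ¬ X ≤ o2 F) ∧
    ∀ X ∈ 𝓐, X ≤ T → X ≤ BT n ∧
      ((∀ a ∈ X, ∀ v ∈ zl (S : Subgroup G) P, a * v = v * a) ∨ Lev.Uni.Best (zc n.K) X)

/-- the family, for the pairs without stage -/
def QFam (P : Subgroup G) (n : LV S) (M H : Subgroup G) : Prop :=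
  ∀ T F : Subgroup G, Pair P n M H T F → Wrd n F → FamF P n T F

/-- members of lower levels centralise `V` -/
theorem comm_V (h : Ln P n L W Z C A q) {a v : G} (ha : a ∈ n.K)
    (hv : v ∈ zl (S : Subgroup G) P) : a * v = v * a := h.fr.cQ (h.le ha) hv

theorem zc_elab (K : Subgroup G) : IsElementaryAbelian 2 (zc K) :=
  ⟨⟨⟨fun a b => Subtype.ext ((mem_zc.1 b.2).2.2 _ (mem_zc.1 a.2).1)⟩⟩, fun a ha => (mem_zc.1 ha).2.1⟩

theorem V_le_X (h : Ln P n L W Z C A q) {D : LV S} (hD : D.K ≤ n.K) :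
    zl (S : Subgroup G) P ≤ zc D.K := h.fr.VX.trans (LV.zc_le hD)

theorem Pair.nKO {M H T F : Subgroup G} (hp : Pair P n M H T F)
    (hZM : normalizer (ZT n : Set G) ≤ M) : ¬ n.nx ≤ o2 F := fun hle =>
  hp.nM ((le_normalizer_o2 F).trans (((lb n).nrm _ (isPGroup_o2 F) hle).trans hZM))

theorem Pair.minPar {M H T F : Subgroup G} (hp : Pair P n M H T F)
    (hZM : normalizer (ZT n : Set G) ≤ M) : IsMinPar T F := by
  refine ⟨hp.syl.1, fun hle => ?_, F ⊓ M, lt_of_le_of_ne inf_le_left fun e => hp.nM (inf_eq_left.1 e),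
    fun K hTK hKF => le_inf hKF.le (hp.min K hTK hKF)⟩
  apply hp.nKO hZM
  exact ((lb n).KB.trans hp.BT).trans (le_o2 hp.syl.2.1 hp.syl.1 hle)

/-- The family of offenders. -/
theorem exists_fam (h : Ln P n L W Z C A q) {M H T F : Subgroup G} (hp : Pair P n M H T F)
    (hQ : QFam P n M H)
    (hD : centralizer (ZT n : Set G) ≤ M) (hTM : T ≤ M)
    (hZM : normalizer (ZT n : Set G) ≤ M) : FamF P n T F := by
  by_cases hw : Wrd n F
  · exact hQ T F hp hw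
  have hT2 := hp.syl.2.1
  have hKT : n.nx ≤ T := (lb n).KB.trans hp.BT
  have h0T : jj (S : Subgroup G) ≤ T := (n.lev.jjle.trans n.K_le_nx).trans hKT
  rcases stage n (hp.nKO hZM) hw with hJ | ⟨D, hs, hlow, hnle⟩
  · -- stage `-1`
    have hjT : jj T = jj (S : Subgroup G) := MinSimple.EmptyTI.jj_eq S hT2 h0T
    refine ⟨AA F, fun Λ hΛ hΛF hn _ => fm_AA hΛ hΛF hn, ?_, fun X hX hXT => ?_⟩
    · by_contra hcon
      push Not at hcon
      apply hJ
      rw [← hjT, Cfsg.Agent.ZN.ChoiceBase.jj_eq]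
      exact sSup_le fun X hX => hcon X (Swap.AA_of_syl hp.syl hX) hX.2.1
    · have h1 : X ≤ jj (S : Subgroup G) := by
        have := le_jj (Swap.AA_of_le hX hXT hp.syl.1)
        rwa [hjT] at this
      have h2 : X ≤ n.K := h1.trans n.lev.jjle
      exact ⟨(h2.trans n.K_le_nx).trans (lb n).KB, Or.inl fun _ ha _ hv => comm_V h (h2 ha) hv⟩
  · -- a level `D ≤ K₀`
    have hX := zc_elab D.K
    have hnx : D.nx ≤ T := (LV.nx_mono hs).trans hKT
    have hFN : F ≤ normalizer (zc D.K : Set G) :=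
      ((le_normalizer_o2 F).trans ((D.levT hT2 (D.K_le_nx.trans hnx)).norm _ hlow (o2_le_syl hp.syl))).trans
        (NO3S.Level.normalizer_le_zc _)
    have hVX := V_le_X h hs
    refine ⟨BF F (zc D.K), fun Λ hΛ hΛF hn hle => fm_best hX hFN ?_ hn, ?_, fun X hXA hXT => ?_⟩
    · refine hle.trans (NoFF.Basic.V_le fun f hf => ?_)
      have h1 := cj_mono f hVX
      rwa [cj_eq_of_mem_normalizer (hFN hf)] at h1
    · by_contra hcon
      push Not at hcon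
      apply hnle
      rw [← D.nxtT hT2 hnx]
      have : Fact (Nat.Prime 2) := ⟨Nat.prime_two⟩
      have hNn : F ≤ normalizer ((F ⊓ centralizer (zc D.K : Set G) : Subgroup G) : Set G) := by
        intro f hf
        rw [mem_normalizer_iff_cj, cj_inf, cj_centralizer, cj_eq_of_mem_normalizer (hFN hf),
          cj_eq_of_mem_normalizer (le_normalizer hf)]
      refine sup_le ?_ (sSup_le fun X hX' => hcon X ⟨hX'.1.trans hp.syl.1, hT2.to_le hX'.1, hX'.2⟩ hX'.1)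
      rcases (hp.minPar hZM).sup_eq_or_inf_le (p := 2) hT2 (syl_not_dvd hp.syl)
        (N := F ⊓ centralizer (zc D.K : Set G)) inf_le_left hNn with h1 | h1
      · exfalso
        apply hp.nM
        rw [← h1]
        refine sup_le ((inf_le_right.trans (centralizer_le ?_)).trans hD) hTM
        exact_mod_cast h.fr.ZJV.trans hVX
      · refine le_trans (fun x hx => ?_) h1
        exact ⟨hx.1, hp.syl.1 hx.1, hx.2⟩
    · have hXD : X ∈ BO T D.K := ⟨hXT, hXA.2.2⟩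
      have h1 : X ≤ D.nx := by
        rw [← D.nxtT hT2 hnx]
        exact NO3S.Level.BO.le_nxt hXD
      refine ⟨(h1.trans (LV.nx_mono hs)).trans (lb n).KB, Or.inr fun F' h2 h3 => ?_⟩
      exact (NO3S.Level.bfam_BO (L := ⊥) (LV.zc_le hs) bot_le).best X hXD F' h2 h3

end fam

end Cfsg.Agent.Omega.OM.SWT
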