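import Cfsg.Agent.Omega.OM.SWQ.CaseTwoEnd
import Cfsg.Agent.Omega.OM.SWT.Dt

/-!
# THEOREM SWQ over a general top level `K₀`, CASE II: `T` normalises `Z j` and does not centralise it, `q > 4`

Port of `SWQ/CaseTwo.lean`, `SWQ/CaseTwoEnd.lean` (helper359) to the frames `Ln`, `Dt` of `SWT/{Base, Dt}.lean`.

* `comm_pair`, `elab_V` : `⟨V^F⟩` is elementary abelian (any `q`);
* `false_of` : the instance of `Fam.One`; `Dt.case_two` : `T` normalises all `Z i`, `|F| ≠ 4`: contradiction. The choice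
  of the pair is the hypothesis `hcen` only, the family of offenders is the hypothesis `hfam`.
-/

set_option autoImplicit false
set_option linter.unusedSectionVars false

namespace Cfsg.Agent.Omega.OM.SWT.CaseTwo

open Subgroup Cfsg Cfsg.Agent.ZN.ChoiceBase Cfsg.Agent.ZN.ChoiceSit
open Cfsg.Agent.ZN (jj zj bau zc zl o2)
open Cfsg.Agent.Omega.FrameFF (cv)
open Cfsg.Agent.Omega.NO3S.OneLine (NatC)
open Cfsg.Agent.Omega.OM.Lev.Nat
open Cfsg.Agent.Omega.OM.Swap.Fam (Fm Cost)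
open Cfsg.Agent.Omega.OM.FourF (MD Act)
open Cfsg.Agent.Omega.OM.SWQ.CaseTwo (Cj cj_of_md)

universe u

variable {G : Type u} [Group G] [Finite G]

section line

variable {ι : Type} [Finite ι] {S : Sylow 2 G} {P : Subgroup G} {n : LV S} {L W Z C A : ι → Subgroup G} {q : ℕ}

/-- `V` commutes with its conjugates under `F`. -/
theorem comm_pair (h : Ln P n L W Z C A q) {M H T F : Subgroup G} (hp : Pair P n M H T F) {f : G} (hf : f ∈ F)
    {x y : G} (hx : x ∈ zl (S : Subgroup G) P) (hy : y ∈ zl (S : Subgroup G) P) :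
    x * (f * y * f⁻¹) = f * y * f⁻¹ * x := by
  have hV := hp.VO
  have hTn := two_norm h hp.syl.2.1 hp.BT
  have hO : o2 F ≤ T := o2_le_syl hp.syl
  have hcO : cj f (o2 F) = o2 F := cj_eq_of_mem_normalizer (le_normalizer_o2 F hf)
  have h1 : cj f (zl (S : Subgroup G) P) ≤ normalizer (zl (S : Subgroup G) P : Set G) := by
    have := cj_mono f hV
    rw [hcO] at this
    exact (this.trans hO).trans hTn
  have h2 : zl (S : Subgroup G) P ≤ normalizer ((cj f (zl (S : Subgroup G) P) : Subgroup G) : Set G) := by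
    have h3 := cj_mono f ((hO.trans hTn : o2 F ≤ normalizer (zl (S : Subgroup G) P : Set G)))
    rw [hcO, cj_normalizer] at h3
    exact hV.trans h3
  by_contra hne
  refine h.hyp.noFF ⟨P, P, f, h.hyp.star, h.hyp.star, h2, h1, fun e => hne ?_⟩
  have h4 := commutator_eq_bot_iff_le_centralizer.1 e
  exact (mem_centralizer_iff.1 (h4 hx) (f * y * f⁻¹) ⟨y, hy, rfl⟩).symm

/-- `⟨V^F⟩` is elementary abelian. -/
theorem elab_V (h : Ln P n L W Z C A q) {M H T F : Subgroup G} (hp : Pair P n M H T F) :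
    IsElementaryAbelian 2 (NoFF.Basic.V (zl (S : Subgroup G) P) F) := by
  have h1 := Swap.elab_iSup (W := fun f : F => cj (f : G) (zl (S : Subgroup G) P)) (fun f f' x hx y hy => ?_)
    fun f x hx => ?_
  · exact Swap.elab_of h1.1 h1.2
  · rw [mem_cj] at hx hy
    have h2 := comm_pair h hp (mul_mem (inv_mem f.2) f'.2) hx hy
    have e1 : (f : G)⁻¹ * f' * ((f' : G)⁻¹ * y * f') * ((f : G)⁻¹ * f')⁻¹ = (f : G)⁻¹ * y * f := by group
    rw [e1] at h2
    have h3 := congrArg (fun t => (f : G) * t * (f : G)⁻¹) h2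
    have e2 : (f : G) * ((f : G)⁻¹ * x * f * ((f : G)⁻¹ * y * f)) * (f : G)⁻¹ = x * y := by group
    have e3 : (f : G) * ((f : G)⁻¹ * y * f * ((f : G)⁻¹ * x * f)) * (f : G)⁻¹ = y * x := by group
    exact e2.symm.trans (h3.trans e3)
  · rw [mem_cj] at hx
    have h2 := SQ1.Bau.elem_sq h.fr.el _ hx
    rw [pow_two] at h2
    have e : x * x = f * ((f : G)⁻¹ * x * f * ((f : G)⁻¹ * x * f)) * (f : G)⁻¹ := by group
    rw [e, h2]; group

end line

section line

variable {ι : Type} [Finite ι] {S : Sylow 2 G} {P : Subgroup G} {n : LV S} {L W Z C A : ι → Subgroup G} {q : ℕ}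
  {K : Type} [Field K] [CharP K 2]

/-- `O₂(F)` does not centralise `Z j`. -/
theorem exists_o (h : Ln P n L W Z C A q) {M H T F : Subgroup G} (hp : Pair P n M H T F) {j : ι}
    (hne : ¬ Z j ≤ centralizer (T : Set G)) : ∃ o ∈ o2 F, ∃ z ∈ Z j, o * z ≠ z * o := by
  by_contra hcon
  push Not at hcon
  apply hne
  intro z hz
  have h1 : z ∈ centralizer (F : Set G) :=
    hp.fix ⟨h.fr.Z_le j hz, mem_centralizer_iff.2 fun o ho => hcon o ho z hz⟩
  exact centralizer_le (by exact_mod_cast hp.syl.1) h1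

/-- (**) `N_F(Z j) ≤ M` -/
theorem norm_Z (h : Ln P n L W Z C A q) {M H T F : Subgroup G} (hp : Pair P n M H T F)
    (hN : normalizer (BT n : Set G) ≤ M) {j : ι}
    (H1 : ∀ f ∈ F, (∀ x ∈ Z j, f * x = x * f) → f ∈ M) {f : G} (hf : f ∈ F) (hfZ : cj f (Z j) = Z j) : f ∈ M := by
  set Q : Subgroup G := F ⊓ centralizer (Z j : Set G) with hQ
  have hB : BT n ≤ Q :=
    le_inf (hp.BT.trans hp.syl.1) ((lb n).Bc.trans (centralizer_le (by exact_mod_cast h.fr.Z_le j)))
  obtain ⟨R, hR, hBR⟩ := exists_syl (lb n).Bp hB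
  have hQf : cj f Q = Q := by
    rw [hQ, cj_inf, cj_centralizer, hfZ, cj_eq_of_mem_normalizer (le_normalizer hf)]
  have hR' : Syl (cj f R) Q := by
    refine ⟨(cj_mono f hR.1).trans hQf.le, isPGroup_cj f hR.2.1, fun T' hT' hp' hle => ?_⟩
    have h3 : cj f⁻¹ T' ≤ Q := by
      have := cj_mono f⁻¹ hT'
      rwa [← hQf, cj_inv_cj] at this
    have h4 := hR.2.2 (cj f⁻¹ T') h3 (isPGroup_cj _ hp') (cj_le_iff.1 hle)
    rw [← h4, cj_cj_inv]
  obtain ⟨x, hx, e⟩ := syl_conj hR' hR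
  have h5 : cj (x * f) R = R := by rw [← cj_cj]; exact e
  have h6 : cj (x * f) (BT n) = BT n := by
    have h7 : cj (x * f) (BT n) ≤ R := (cj_mono _ hBR).trans h5.le
    exact wc n R hR.2.1 hBR (x * f) h7
  have h8 : x * f ∈ M := hN (mem_normalizer_iff_cj.2 h6)
  have h9 : x ∈ M := H1 x hx.1 fun z hz => (mem_centralizer_iff.1 hx.2 z hz).symm
  have := mul_mem (inv_mem h9) h8
  rwa [inv_mul_cancel_left] at this

/-- **CASE II** -/
theorem false_of (h : Ln P n L W Z C A q) {M H T F : Subgroup G} (hp : Pair P n M H T F) (hfam : FamF P n T F)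
    (hD : centralizer (ZT n : Set G) ≤ M) (hN : normalizer (BT n : Set G) ≤ M)
    {j : ι} {e : G → K × K} (c : Cj K T (BT n) (W j) (Z j) e)
    (hne : ¬ Z j ≤ centralizer (T : Set G))
    (hNb : ∀ x ∈ Z j, x ∉ centralizer (T : Set G) → ∀ f ∈ F, f * x = x * f → f ∈ M)
    (hcost : Cost T (W j) fun x => x ∈ Z j ∧ x ∉ centralizer (T : Set G))
    (h4 : F ⊓ normalizer (W j : Set G) ≤ M) : False := by
  have hZM : normalizer (ZT n : Set G) ≤ M := (lb n).norm_zj_le.trans (sup_le hD hN)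
  have hTN : T ≤ normalizer (BT n : Set G) := (lb n).two_le hp.syl.2.1 hp.BT
  have hTM : T ≤ M := hTN.trans hN
  have hO : o2 F ≤ T := o2_le_syl hp.syl
  obtain ⟨𝓐, hfam, hnJ, hA⟩ := hfam
  have hVel := elab_V h hp
  have hUV : W j ≤ zl (S : Subgroup G) P := h.fr.WV j
  have hLV : NoFF.Basic.V (W j) F ≤ NoFF.Basic.V (zl (S : Subgroup G) P) F :=
    NoFF.Basic.V_le fun f hf => (cj_mono f hUV).trans (NoFF.Basic.Z_le_V hf)
  have hUO : W j ≤ o2 F := hUV.trans hp.VO
  have hUF : W j ≤ F := hUO.trans (o2_le F)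
  have hLF : NoFF.Basic.V (W j) F ≤ F := by
    refine NoFF.Basic.V_le fun f hf => ?_
    have := cj_mono f hUF
    rwa [cj_eq_of_mem_normalizer (le_normalizer hf)] at this
  have hel := Swap.elab_mono hVel hLV
  have H1 : ∀ f ∈ F, (∀ x ∈ Z j, f * x = x * f) → f ∈ M := by
    intro f hf hx
    obtain ⟨x, hx1, hx2⟩ := SetLike.not_le_iff_exists.1 hne
    exact hNb x hx1 hx2 f hf (hx x hx1)
  have hone : Swap.Fam.One F T (F ⊓ M) 𝓐 (W j) (fun _ : Unit => W j) (fun _ : Unit => Z j) :=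
    { syl := hp.syl
      TF₀ := le_inf hp.syl.1 hTM
      F₀F := lt_of_le_of_ne inf_le_left fun e => hp.nM (inf_eq_left.1 e)
      max := fun K hTK hKF => le_inf hKF.le (hp.min K hTK hKF)
      fam := hfam _ hel hLF OmThm.XD.X_le_normalizer_W hLV
      nJ := hnJ
      ne := ⟨()⟩
      UO := hUO
      TU := c.TU
      comm := fun x hx y hy => SQ1.Bau.elem_comm hel x hx y hy
      sq := fun x hx => by
        have := SQ1.Bau.elem_sq hel x hx
        rwa [pow_two] at this
      sup := by rw [iSup_const]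
      H1 := fun _ f hf hx => ⟨hf, H1 f hf hx⟩
      H2 := fun X hX hXT _ => c.h2 (hA X hX hXT).1
      H3 := fun _ => c.h3 hO ((hp.syl.1).trans (le_normalizer_o2 F)) (exists_o h hp hne)
      H4 := le_inf inf_le_left h4 }
  exact hone.false_of_count (fun x _ hb f hf hfx => ⟨hf, hNb x hb.1 hb.2 f hf hfx⟩) hcost

end line


section md

variable {S : Sylow 2 G} {P : Subgroup G} {n : LV S} {F : Type} [Field F] [Finite F]
  [CharP F 2] {k : ℕ} {M : NatC F (S : Subgroup G) P (zl (S : Subgroup G) P) (cv (S : Subgroup G) P) k}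
  {L Z A : Fin k → Subgroup G} (D : Dt P n M L Z A)

include D in
/-- `Z_J = ∏ Z i` -/
theorem ZL_le : ZT n ≤ ⨆ i, Z i := by
  classical
  intro z hz
  have c := D.cd
  obtain ⟨hzV, hz1⟩ := (D.memJ z).1 hz
  have key : ∀ s : Finset (Fin k), ∃ w ∈ zl (S : Subgroup G) P, w ∈ (⨆ i, Z i) ∧
      M.nat.e w = fun i => if i ∈ s then M.nat.e z i else 0 := by
    intro s
    induction s using Finset.induction_on with
    | empty => exact ⟨1, one_mem _, one_mem _, by rw [c.map_one]; funext i; simp⟩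
    | insert a s ha ih =>
      obtain ⟨w, hw, hw1, hw2⟩ := ih
      obtain ⟨v, hv, hve⟩ := c.surj (Pi.single a (M.nat.e z a))
      have hvZ : v ∈ Z a := (D.memZ a v).2 ⟨⟨hv, fun j hj => by rw [hve, Pi.single_eq_of_ne hj]⟩, by
        rw [hve, Pi.single_eq_same]; exact hz1 a⟩
      refine ⟨v * w, mul_mem hv hw, mul_mem ((le_iSup Z a) hvZ) hw1, ?_⟩
      rw [c.mul v hv w hw, hve, hw2]
      funext i
      by_cases hi : i = a
      · subst hi
        simp [ha]
      · simp [hi]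
  obtain ⟨w, hw, hw1, hw2⟩ := key Finset.univ
  have h1 : z = w := c.eq_of hzV hw (by rw [hw2]; funext i; simp)
  rw [h1]
  exact hw1

include D in
/-- **CASE II** -/
theorem _root_.Cfsg.Agent.Omega.OM.SWT.Dt.case_two {X H T Y : Subgroup G} (hp : Pair P n X H T Y)
    (hTS : T ≤ (S : Subgroup G)) (hfam : FamF P n T Y)
    (hcen : ∀ R : Subgroup G, R ≤ ZT n → ZT n ⊓ centralizer (T : Set G) < R → centralizer (R : Set G) ≤ X)
    (hD : centralizer (ZT n : Set G) ≤ X) (hN : normalizer (BT n : Set G) ≤ X)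
    (hPhi : ∀ i, i ∈ Phi Z T) (hq : Nat.card F ≠ 4) : False := by
  obtain ⟨z₀, f₀, m⟩ := D.exists_md
  have hT2 := hp.syl.2.1
  have hO : o2 Y ≤ T := o2_le_syl hp.syl
  obtain ⟨j, hj⟩ : ∃ j, ¬ Z j ≤ centralizer (T : Set G) := by
    by_contra hcon
    push Not at hcon
    apply hp.nM
    have h1 : ZT n ≤ centralizer (Y : Set G) := by
      intro z hz
      refine hp.fix ⟨hz, centralizer_le (by exact_mod_cast hO) ?_⟩
      exact (iSup_le hcon) (ZL_le D hz)
    exact (le_centralizer_iff.1 h1).trans hD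
  have c : Cj F T (BT n) (Wn M j) (Z j) (MD.co M.nat z₀ f₀ j) :=
    cj_of_md m hTS hp.BT (fun t ht => hPhi j t ht) (fun b hb z hz => D.cB hb (D.ln.fr.Z_le j hz)) fun v hv => by
      have := SQ1.Bau.elem_sq D.ln.fr.el v hv
      rwa [pow_two] at this
  have hNb : ∀ x ∈ Z j, x ∉ centralizer (T : Set G) → ∀ f ∈ Y, f * x = x * f → f ∈ X := by
    intro x hx hxT f hf hfx
    have hY : (ZT n ⊓ centralizer (T : Set G)) ⊔ zpowers x ≤ ZT n :=
      sup_le inf_le_left (by rw [zpowers_le]; exact D.ln.fr.Z_le j hx)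
    have hlt : ZT n ⊓ centralizer (T : Set G) <
        (ZT n ⊓ centralizer (T : Set G)) ⊔ zpowers x := by
      refine lt_of_le_of_ne le_sup_left fun e => hxT ?_
      have h1 : x ∈ (ZT n ⊓ centralizer (T : Set G)) ⊔ zpowers x := mem_sup_right (mem_zpowers x)
      rw [← e] at h1
      exact h1.2
    refine hcen _ hY hlt ?_
    have h2 : (ZT n ⊓ centralizer (T : Set G)) ⊔ zpowers x ≤ centralizer ({f} : Set G) := by
      refine sup_le (fun z hz => ?_) ?_
      · rw [mem_centralizer_singleton_iff]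
        have h3 : z ∈ centralizer (Y : Set G) := hp.fix ⟨hz.1, centralizer_le (by exact_mod_cast hO) hz.2⟩
        exact (mem_centralizer_iff.1 h3 f hf).symm
      · rw [zpowers_le, mem_centralizer_singleton_iff]
        exact hfx.symm
    exact mem_centralizer_iff.2 fun z hz => mem_centralizer_singleton_iff.1 (h2 hz)
  have hTO : T ≤ normalizer (o2 Y : Set G) := hp.syl.1.trans (le_normalizer_o2 Y)
  refine false_of D.ln hp hfam hD hN c hj hNb (c.cost hT2 hq hj) ?_
  rintro f ⟨hf, hfU⟩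
  refine norm_Z D.ln hp hN (fun f hf hx => ?_) hf
    (c.h4 hT2 hq hO hTO (exists_o D.ln hp hj) (cj_eq_of_mem_normalizer (le_normalizer_o2 Y hf)) hfU)
  obtain ⟨x, hx1, hx2⟩ := SetLike.not_le_iff_exists.1 hj
  exact hNb x hx1 hx2 f hf (hx x hx1)

end md

end Cfsg.Agent.Omega.OM.SWT.CaseTwo
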