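import Cfsg.Agent.Omega.OM.SWT.LowLev
import Cfsg.Agent.Omega.OM.SwapT.QuietL

/-!
# (Om) over the case (L) of GammaFF: the sockets of `SWT/Base.lean` from `QuietL.OffW` and LAMBDA

`M ≥ S, C_G(Z_J), N_G(B)`.

* `LowM h M H` : the minimal parabolics `Y ≤ H` over a 2-group `T ≥ B` with `lim S ≤ O₂(Y)`, `O₂(P) ≰ O₂(Y)`, which move
  `Ω₁(Z(T))`, lie in `M`;
* `LamS S P M` : the same for `B ≤ T ≤ S`, `Y ≤ C_G(Ω₁Z(S))`, over helper194's `WY`; `lowM_of`;
* `bm_ofM`, `qfix_ofM`, `qfam_ofM`; `lowM_cj`.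
-/

set_option autoImplicit false
set_option linter.unusedSectionVars false

namespace Cfsg.Agent.Omega.OM.SWT

open Subgroup Cfsg Cfsg.Agent.ZN.ChoiceBase Cfsg.Agent.ZN.ChoiceSit
open Cfsg.Agent.ZN (jj zj bau zc zl o2)
open Cfsg.Agent.MinSimple.MinParabolic (IsMinPar)
open Cfsg.Agent.MinSimple.VModule (oddGen oddGen_le)
open Cfsg.Agent.Omega.NO1.BestOff (Best)
open Cfsg.Agent.Omega.NO3S.Level (Lev nxt lim lev_isLev lev_le_lim CaseL)
open Cfsg.Agent.Omega.NO3S.WY (WQ WY)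
open Cfsg.Agent.Omega.OM.LevB (FBlk)
open Cfsg.Agent.Omega.OM.SwapK (VF V_le_VF fam_of_off fix_of_off)
open Cfsg.Agent.Omega.OM.SwapT.QuietL (OffW)

universe u

variable {G : Type u} [Group G] [Finite G] {S : Sylow 2 G} {P : Subgroup G}

/-- **LL** for the `Y` with `lim S ≤ O₂(Y)`, `O₂(P) ≰ O₂(Y)`. -/
def LowM (h : CaseL S P) (M H : Subgroup G) : Prop :=
  ∀ T Y : Subgroup G, Syl T Y → BT (nL h) ≤ T → IsMinPar T Y → Y ⊓ centralizer (o2 Y : Set G) ≤ o2 Y → Y ≤ H →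
    lim (S : Subgroup G) ≤ o2 Y → ¬ o2 P ≤ o2 Y → ¬ Y ≤ centralizer (zc T : Set G) → Y ≤ M

/-- **LAMBDA, its conclusion.** -/
def LamS (S : Sylow 2 G) (P M : Subgroup G) : Prop :=
  ∀ T Y : Subgroup G, WY S P T Y → SwapT.BT (S : Subgroup G) (o2 P) ≤ T → lim (S : Subgroup G) ≤ o2 Y →
    Y ≤ centralizer (zc (S : Subgroup G) : Set G) → Y ≤ M

section one

variable (h : CaseL S P) {M H : Subgroup G}

theorem offC_of (ho : OffW S P M) (hSM : (S : Subgroup G) ≤ M) (hD : centralizer (zl (S : Subgroup G) P : Set G) ≤ M)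
    (hN : normalizer (BT (nL h) : Set G) ≤ M) : OffC h M H := fun _ _ hq hl hK =>
  ho.gen h hSM hD hN hq.syl hq.BT hq.syl.2.1 le_rfl hq.min hq.char2 hl hK hq.quiet hq.nM

theorem bm_ofM {ι : Type} [Finite ι] {L W Z C A : ι → Subgroup G} {q : ℕ} (hl : Ln P (nL h) L W Z C A q) (hq : 2 < q)
    (hL : LowM h M H) (hX : ∀ L' V' : Subgroup G, FBlk (BT (nL h)) L' V' → V' ≤ zl (S : Subgroup G) P → L' ≤ M)
    (hN : normalizer (BT (nL h) : Set G) ≤ M) : BM (nL h) M H := by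
  intro T Y hT hB hP hc hH hn hZ
  by_cases hK : o2 P ≤ o2 Y
  · obtain ⟨L', V', -, h2, h3, h4⟩ := exists_fblk h (hl.fr.ZJV) hT hB hP hc hK hn hZ
    exact h4.trans (sup_le (((lb (nL h)).two_le hT.2.1 hB).trans hN) (hX L' V' h2 h3))
  · exact hL T Y hT hB hP hc hH (low_lim h hl hq hT hB hP hc hZ) hK hZ

theorem qfam_ofM (ho : OffW S P M) (hZM : normalizer (ZT (nL h) : Set G) ≤ M) (hSM : (S : Subgroup G) ≤ M)
    (hD : centralizer (zl (S : Subgroup G) P : Set G) ≤ M) (hN : normalizer (BT (nL h) : Set G) ≤ M) :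
    QFam P (nL h) M H := by
  intro T F hp hw
  have hl := wrd_lim h hw
  obtain ⟨T₀, Y, hY, hFY, hOF⟩ := hp.inQ
  obtain ⟨T₁, hT₁, hTT₁⟩ := exists_syl hp.syl.2.1 (hp.syl.1.trans hFY)
  obtain ⟨y, hy, rfl⟩ := syl_conj hY.syl hT₁
  have hz1 : F ≤ centralizer (zc (cj y T₀) : Set G) := by
    have h1 := cj_mono y hY.quiet
    rw [cj_eq_of_mem_normalizer (le_normalizer hy), cj_centralizer, ← NO3S.Level.zc_cj] at h1
    exact hFY.trans h1
  have hcF : F ⊓ centralizer (o2 F : Set G) ≤ o2 F := by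
    rintro x ⟨hx, hxc⟩
    exact hOF (hY.char2 ⟨hFY hx, centralizer_le (by exact_mod_cast hOF) hxc⟩)
  have hoff := ho.gen h hSM hD hN hp.syl hp.BT hT₁.2.1 hTT₁ (hp.minPar hZM) hcF hl hw.nK hz1 hp.nM
  obtain ⟨𝓐, h1, h2, h3⟩ := fam_of_off h h.lim_le hp.syl hp.BT hl hoff
  exact ⟨𝓐, h1, h2, fun X hX hXT => ⟨(h3 X hX hXT).1,
    (h3 X hX hXT).2.imp id fun hb F' h4 h5 => hb.max F' h5 h4⟩⟩

theorem lowM_cj {m : G} (hL : LowM h M H) (hN : normalizer (BT (nL h) : Set G) ≤ M)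
    (hm : m ∈ normalizer (BT (nL h) : Set G)) : LowM h M (cj m H) := by
  intro T Y hT hB hP hc hH hl hK hZ
  have hm' := inv_mem hm
  obtain ⟨e1, -, -⟩ := norm_all h hm'
  have hlw : cj m⁻¹ (lim (S : Subgroup G)) = lim (S : Subgroup G) :=
    LevD.norm_of_wc (NO3S.Level.wc_lim S) (lb (nL h)).Bp
      ((h.lim_le.trans (nL h).K_le_nx).trans (lb (nL h)).KB) hm'
  have h1 := hL (cj m⁻¹ T) (cj m⁻¹ Y) (ZN.CaseTwo.syl_cj m⁻¹ hT) (by
    have := cj_mono m⁻¹ hB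
    rwa [cj_eq_of_mem_normalizer hm'] at this) (NOThree.NoOver.isMinPar_cj m⁻¹ hP) (cj_char2 m⁻¹ hc) (by
    have := cj_mono m⁻¹ hH
    rwa [cj_inv_cj] at this) (by
    rw [o2_cj, ← hlw]
    exact cj_mono m⁻¹ hl) (fun hle => hK (by
    rw [o2_cj, ← e1] at hle
    have := cj_mono m hle
    rwa [cj_cj_inv, cj_cj_inv] at this)) (fun hle => hZ (by
    rw [LemmaK.Main.zc_cj, ← cj_centralizer] at hle
    have := cj_mono m hle
    rwa [cj_cj_inv, cj_cj_inv] at this))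
  have := cj_mono m h1
  rwa [cj_cj_inv, cj_eq_of_mem_normalizer (le_normalizer (hN hm))] at this

/-- `LowM` in `C_G(Ω₁Z(S))` from `LamS`. -/
theorem lowM_of (hL : LamS S P M) (hSM : (S : Subgroup G) ≤ M)
    (hD : centralizer (zl (S : Subgroup G) P : Set G) ≤ M) (hN : normalizer (BT (nL h) : Set G) ≤ M) :
    LowM h M (centralizer (zc (S : Subgroup G) : Set G)) := by
  intro T Y hT hB hP hc hH hl hK hZ
  have hSH : (S : Subgroup G) ≤ centralizer (zc (S : Subgroup G) : Set G) := NO3S.Level.le_centralizer_zc _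
  have hsyl : Syl (S : Subgroup G) (centralizer (zc (S : Subgroup G) : Set G)) := ZN.CaseTwo.syl_of_sylow S hSH
  obtain ⟨T₁, hT₁, hTT₁⟩ := exists_syl hT.2.1 (hT.1.trans hH)
  obtain ⟨x, hx, rfl⟩ := syl_conj hsyl hT₁
  have hxB : x⁻¹ ∈ normalizer (BT (nL h) : Set G) := by
    have h1 : cj x⁻¹ (BT (nL h)) ≤ (S : Subgroup G) := by
      have := cj_mono x⁻¹ (hB.trans hTT₁)
      rwa [cj_inv_cj] at this
    exact mem_normalizer_iff_cj.2 (wc (nL h) _ S.isPGroup' (lb (nL h)).BS _ h1)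
  obtain ⟨e1, -, -⟩ := norm_all h hxB
  have hlw : cj x⁻¹ (lim (S : Subgroup G)) = lim (S : Subgroup G) :=
    LevD.norm_of_wc (NO3S.Level.wc_lim S) (lb (nL h)).Bp
      ((h.lim_le.trans (nL h).K_le_nx).trans (lb (nL h)).KB) hxB
  have hTS : cj x⁻¹ T ≤ (S : Subgroup G) := by
    have := cj_mono x⁻¹ hTT₁
    rwa [cj_inv_cj] at this
  have hxM : x ∈ M := by
    have := inv_mem (hN hxB)
    rwa [inv_inv] at this
  have hsy : Syl (cj x⁻¹ T) (cj x⁻¹ Y) := ZN.CaseTwo.syl_cj x⁻¹ hT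
  have hBT : BT (nL h) ≤ cj x⁻¹ T := by
    have := cj_mono x⁻¹ hB
    rwa [cj_eq_of_mem_normalizer hxB] at this
  have hYM : cj x⁻¹ Y ≤ M → Y ≤ M := fun hle => by
    have := cj_mono x hle
    rwa [cj_cj_inv, cj_eq_of_mem_normalizer (le_normalizer hxM)] at this
  by_cases hmv : oddGen (cj x⁻¹ Y) ≤ centralizer (zl (S : Subgroup G) P : Set G)
  · apply hYM
    rw [← Dich.oddGen_sup_syl hsy]
    exact sup_le (hmv.trans hD) (hTS.trans hSM)
  refine hYM (hL (cj x⁻¹ T) (cj x⁻¹ Y) ?_ hBT ?_ ?_)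
  · exact
      { cl := h
        TS := hTS
        QT := ((nL h).K_le_nx.trans (lb (nL h)).KB).trans hBT
        syl := hsy
        min := NOThree.NoOver.isMinPar_cj x⁻¹ hP
        c2 := cj_char2 x⁻¹ hc
        mvL := hmv
        nQ := fun hle => hK (by
          rw [o2_cj, ← e1] at hle
          have := cj_mono x hle
          rwa [cj_cj_inv, cj_cj_inv] at this)
        jY := by
          rw [o2_cj]
          exact ((NO3S.Level.lev_mono (S : Subgroup G) (Nat.zero_le _)).trans hlw.ge).trans (cj_mono x⁻¹ hl)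
        mv := fun hle => hZ (by
          rw [LemmaK.Main.zc_cj, ← cj_centralizer] at hle
          have := cj_mono x hle
          rwa [cj_cj_inv, cj_cj_inv] at this) }
  · rw [o2_cj]
    exact hlw.ge.trans (cj_mono x⁻¹ hl)
  · have := cj_mono x⁻¹ hH
    rwa [cj_eq_of_mem_normalizer (le_normalizer (inv_mem hx))] at this

end one

end Cfsg.Agent.Omega.OM.SWT
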